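import Groth.Agent.EtAcycBC.TorsionDevissage
import Groth.Agent.EtFound.Henselian
import Groth.Agent.EtFound.ConstStalk
import Groth.Agent.EtFound.SepClosedField
import Groth.Agent.EtLC12.QcqsAcyclic
import Groth.Agent.EtMVLib.PullSec
import Groth.Agent.EtStrictBC.Crit
import Groth.Agent.EtContLib.ThenOps

/-!
# Cohomology of torsion constant coefficients from cohomology with prime-order coefficients
-/

set_option autoImplicit false
set_option linter.style.haveILetI false
set_option maxHeartbeats 1000000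

universe u

open CategoryTheory CategoryTheory.Limits AlgebraicGeometry Opposite CategoryTheory.Abelian

namespace Groth.Agent.EtAcycBC

set_option backward.isDefEq.respectTransparency false
set_option backward.isDefEq.respectTransparency.types false

open EtLC12.QcqsAcyclic EtFound

/-- The constant sheaf functor. -/
noncomputable abbrev cst (X : Scheme.{u}) : AddCommGrpCat.{u + 1} ⥤ EtCoh.Ab X :=
  constantSheaf X.smallEtaleTopology AddCommGrpCat.{u + 1}

instance gsec_additive (X : Scheme.{u}) : (EtCore.gsec X).Additive where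
  map_add := rfl

theorem cst_exact (X : Scheme.{u}) (S : ShortComplex AddCommGrpCat.{u + 1}) (hS : S.ShortExact) :
    (haveI : (cst X).Additive := (EtCore.constAdj X).left_adjoint_additive; S.map (cst X)).ShortExact := by
  haveI : PreservesFiniteLimits (cst X) := comp_preservesFiniteLimits _ _
  haveI : PreservesColimitsOfSize.{u + 1, u + 1} (cst X) := (EtCore.constAdj X).leftAdjoint_preservesColimits
  haveI : PreservesFiniteColimits (cst X) := PreservesColimitsOfSize.preservesFiniteColimits _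
  haveI : (cst X).Additive := (EtCore.constAdj X).left_adjoint_additive
  exact hS.map_of_exact (cst X)

theorem unit_eq_toSheafify (X : Scheme.{u}) (M : AddCommGrpCat.{u + 1}) (m : M) :
    (EtCore.constAdj X).unit.app M m =
      (toSheafify X.smallEtaleTopology ((Functor.const X.Etaleᵒᵖ).obj M)).app (op (EtCoh.top X)) m := by
  simp [EtCore.constAdj, constantSheafAdj, constantPresheafAdj, Adjunction.comp_unit_app]
  rfl

/-- The unit at a nonempty scheme is injective. -/
theorem injective_unit (X : Scheme.{u}) [Nonempty X] (M : AddCommGrpCat.{u + 1}) :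
    Function.Injective ((EtCore.constAdj X).unit.app M) := by
  obtain ⟨Ω, _, _, ξ, z, -⟩ := EtFound.exists_algClosed_point (EtCoh.top X) (Classical.arbitrary X)
  intro a b hab
  refine (EtFound.toSheafify_const_germ_bijective ξ AddCommGrpCat.{u + 1} M (EtCoh.top X) z).1 ?_
  rw [unit_eq_toSheafify, unit_eq_toSheafify] at hab
  exact congrArg _ hab

/-- On a strictly henselian local scheme the unit is bijective. -/
theorem bijective_unit_strict (R : Type u) [CommRing R] [HenselianLocalRing R]
    [IsSepClosed (IsLocalRing.ResidueField R)] (M : AddCommGrpCat.{u + 1}) :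
    Function.Bijective ((EtCore.constAdj (Spec (CommRingCat.of R))).unit.app M) := by
  let G := (cst (Spec (CommRingCat.of R))).obj M
  have h := EtFound.toSheafify_const_germ_bijective (EtFound.cpt R) AddCommGrpCat.{u + 1} M
    (EtCoh.top (Spec (CommRingCat.of R))) (EtFound.cptTop R)
  refine ⟨fun a b hab => h.1 ?_, fun y => ?_⟩
  · rw [unit_eq_toSheafify, unit_eq_toSheafify] at hab
    exact congrArg _ hab
  · obtain ⟨m, hm⟩ := h.2 ((Scheme.pointSmallEtale (EtFound.cpt R)).toPresheafFiber
      (EtCoh.top (Spec (CommRingCat.of R))) (EtFound.cptTop R) G.obj y)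
    exact ⟨m, (unit_eq_toSheafify _ M m).trans ((EtFound.toPresheafFiber_top_bijective R G.obj).1 hm)⟩

theorem unit_pull {X Y : Scheme.{u}} (f : X ⟶ Y) (M : AddCommGrpCat.{u + 1}) :
    (EtCore.constAdj Y).unit.app M ≫ (EtMVLib.pullSec f).app ((cst Y).obj M) ≫
      (EtCore.gsec X).map ((EtCore.pullConstIso f).hom.app M) = (EtCore.constAdj X).unit.app M := by
  have h := Adjunction.unit_leftAdjointUniq_hom_app
    (((EtCore.constAdj Y).comp (EtCoh.pullPushAdj f)).ofNatIsoRight (EtCore.pushGsecIso f))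
    (EtCore.constAdj X) M
  refine Eq.trans ?_ h
  rw [Adjunction.ofNatIsoRight_unit, EtMVLib.pullSec_app]
  simp
  rfl

/-- Pullback of sections of a constant sheaf is bijective when both units are. -/
theorem bijective_pullSec_const {X Y : Scheme.{u}} (f : X ⟶ Y) (M : AddCommGrpCat.{u + 1})
    (hY : Function.Bijective ((EtCore.constAdj Y).unit.app M))
    (hX : Function.Bijective ((EtCore.constAdj X).unit.app M)) :
    Function.Bijective ((EtMVLib.pullSec f).app ((cst Y).obj M)) := by
  haveI := (ConcreteCategory.isIso_iff_bijective _).2 hY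
  haveI h₂ := (ConcreteCategory.isIso_iff_bijective _).2 hX
  rw [← unit_pull f M] at h₂
  haveI := h₂
  haveI := IsIso.of_isIso_comp_left ((EtCore.constAdj Y).unit.app M)
    ((EtMVLib.pullSec f).app ((cst Y).obj M) ≫ (EtCore.gsec X).map ((EtCore.pullConstIso f).hom.app M))
  exact (ConcreteCategory.isIso_iff_bijective _).1
    (IsIso.of_isIso_comp_right _ ((EtCore.gsec X).map ((EtCore.pullConstIso f).hom.app M)))

/-- Pullback in degree zero is pullback of sections. -/
theorem bijective_Hpull_zero {X Y : Scheme.{u}} (f : X ⟶ Y) [PreservesFiniteLimits (EtCoh.pull f)] (A : EtCoh.Ab Y)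
    (h : Function.Bijective ((EtMVLib.pullSec f).app A)) : Function.Bijective (EtCore.Hpull f A 0) := by
  let ι₁ : (EtCoh.const Y ℤ ⟶ A) → (EtCoh.const X ℤ ⟶ (EtCoh.pull f).obj A) := fun a =>
    (EtCore.pullConst f ℤ).inv ≫ (EtCoh.pull f).map a
  have e₀ : ∀ a, EtCore.Hpull f A 0 (Ext.mk₀ a) = Ext.mk₀ (ι₁ a) := fun a => by
    show (Ext.mk₀ (EtCore.pullConst f ℤ).inv).comp ((Ext.mk₀ a).mapExactFunctor (EtCoh.pull f)) (zero_add 0) = _
    rw [Ext.mapExactFunctor_mk₀, Ext.mk₀_comp_mk₀]
  have hι : Function.Bijective ι₁ := by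
    refine (Function.Bijective.of_comp_iff' (EtStrictBC.eSec_bijective _) ι₁).1 ?_
    rw [show EtStrictBC.eSec ∘ ι₁ = (fun z => (EtMVLib.pullSec f).app A z) ∘ EtStrictBC.eSec from funext fun a => by
      have := EtStrictBC.eSec_pull f a (𝟙 _)
      rw [CategoryTheory.Functor.map_id, Category.comp_id] at this
      exact this]
    exact h.comp (EtStrictBC.eSec_bijective _)
  refine (Function.Bijective.of_comp_iff _ (Ext.mk₀_bijective _ _)).1 ?_
  rw [show (EtCore.Hpull f A 0) ∘ Ext.mk₀ = Ext.mk₀ ∘ ι₁ from funext e₀]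
  exact (Ext.mk₀_bijective _ _).comp hι

theorem subsingleton_H_henselian (R : Type u) [CommRing R] [HenselianLocalRing R]
    [IsSepClosed (IsLocalRing.ResidueField R)] (A : EtCoh.Ab (Spec (CommRingCat.of R))) (q : ℕ) :
    Subsingleton (EtCoh.H (Spec (CommRingCat.of R)) A (q + 1)) := by
  haveI : Projective (EtCoh.const (Spec (CommRingCat.of R)) ℤ) := EtFound.projective_constZ R
  exact subsingleton_of_forall_eq 0 fun x => Ext.eq_zero_of_projective x

theorem subsingleton_H_of_iso {X : Scheme.{u}} {A B : EtCoh.Ab X} (e : A ≅ B) (q : ℕ)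
    (h : Subsingleton (EtCoh.H X A q)) : Subsingleton (EtCoh.H X B q) :=
  haveI : Subsingleton ((EtCoh.HF X q).obj A) := h
  ((EtCoh.HF X q).mapIso e).addCommGroupIsoToAddEquiv.symm.toEquiv.subsingleton

theorem nonempty_of_nontrivial_H0 (X : Scheme.{u}) (G : EtCoh.Ab X) [Nontrivial (EtCoh.H X G 0)] : Nonempty X := by
  by_contra h
  rw [not_nonempty_iff] at h
  haveI : IsIso (0 : G ⟶ G) := (EtFound.isIso_iff_stalks _).2 fun Ω _ _ ξ => h.elim (ξ.base default)
  have hz : IsZero G := (IsZero.iff_id_eq_zero G).2 (by rw [← IsIso.hom_inv_id (0 : G ⟶ G), zero_comp])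
  obtain ⟨a, ha⟩ := exists_ne (0 : EtCoh.H X G 0)
  obtain ⟨φ, rfl⟩ := (Ext.mk₀_bijective _ _).2 a
  exact ha (by rw [hz.eq_of_tgt φ 0, Ext.mk₀_zero])

variable (X : Scheme.{u})

/-- The unit of the constant sheaf adjunction commutes with filtered colimits. -/
theorem surjective_unit_of_isColimit [CompactSpace X] [QuasiSeparatedSpace X] {Λ : Type (u + 1)} [SmallCategory Λ]
    [IsFiltered Λ] {D : Λ ⥤ AddCommGrpCat.{u + 1}} {c : Cocone D} (hc : IsColimit c)
    (h : ∀ j, Function.Surjective ((EtCore.constAdj X).unit.app (D.obj j))) :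
    Function.Surjective ((EtCore.constAdj X).unit.app c.pt) := by
  haveI : PreservesColimitsOfSize.{u + 1, u + 1} (cst X) := (EtCore.constAdj X).leftAdjoint_preservesColimits
  let Γ := sheafToPresheaf X.smallEtaleTopology AddCommGrpCat.{u + 1} ⋙
    (evaluation X.Etaleᵒᵖ AddCommGrpCat.{u + 1}).obj (op (EtCoh.top X))
  haveI : PreservesColimitsOfShape Λ Γ :=
    preservesColimitsOfShape_sections_qcqs_ab _ ⟨‹CompactSpace X›, ‹QuasiSeparatedSpace X›⟩ Λ
  intro y
  obtain ⟨j, z, hz⟩ := Concrete.isColimit_exists_rep _ (isColimitOfPreserves (cst X ⋙ Γ) hc) y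
  obtain ⟨x, rfl⟩ := h j z
  refine ⟨c.ι.app j x, ?_⟩
  exact (ConcreteCategory.congr_hom ((EtCore.constAdj X).unit.naturality (c.ι.app j)) x).trans hz

theorem subsingleton_H_of_isColimit [CompactSpace X] [QuasiSeparatedSpace X] (q : ℕ) {Λ : Type (u + 1)}
    [SmallCategory Λ] [IsFiltered Λ] {D : Λ ⥤ AddCommGrpCat.{u + 1}} {c : Cocone D} (hc : IsColimit c)
    (h : ∀ j, Subsingleton (EtCoh.H X ((cst X).obj (D.obj j)) q)) :
    Subsingleton (EtCoh.H X ((cst X).obj c.pt) q) := by
  haveI : PreservesColimitsOfSize.{u + 1, u + 1} (cst X) := (EtCore.constAdj X).leftAdjoint_preservesColimits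
  haveI := preservesColimitsOfShape_HF X q Λ
  refine subsingleton_of_forall_eq 0 fun y => ?_
  obtain ⟨j, z, rfl⟩ := Concrete.isColimit_exists_rep _ (isColimitOfPreserves (cst X ⋙ EtCoh.HF X q) hc) y
  obtain rfl : z = 0 := (h j).elim z 0
  exact map_zero _

theorem subsingleton_H_ext (q : ℕ) (S : ShortComplex (EtCoh.Ab X)) (hS : S.ShortExact)
    (h₁ : Subsingleton (EtCoh.H X S.X₁ q)) (h₃ : Subsingleton (EtCoh.H X S.X₃ q)) :
    Subsingleton (EtCoh.H X S.X₂ q) := by
  refine subsingleton_of_forall_eq 0 fun x => ?_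
  obtain ⟨z, rfl⟩ := Ext.covariant_sequence_exact₂ _ hS x (h₃.elim _ _)
  rw [h₁.elim z 0, Ext.zero_comp]

theorem surjective_unit_ext (S : ShortComplex AddCommGrpCat.{u + 1}) (hS : S.ShortExact)
    (h₁ : Function.Surjective ((EtCore.constAdj X).unit.app S.X₁))
    (h₃ : Function.Surjective ((EtCore.constAdj X).unit.app S.X₃)) :
    Function.Surjective ((EtCore.constAdj X).unit.app S.X₂) := by
  haveI : (cst X).Additive := (EtCore.constAdj X).left_adjoint_additive
  haveI : (EtCore.gsec X).IsRightAdjoint := (EtCore.constAdj X).isRightAdjoint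
  haveI : (EtCore.gsec X).Additive := (EtCore.constAdj X).right_adjoint_additive
  have hc := cst_exact X S hS
  haveI := hc.mono_f
  have hex : ((S.map (cst X)).map (EtCore.gsec X)).Exact :=
    hc.exact.map_of_mono_of_preservesKernel (EtCore.gsec X) inferInstance inferInstance
  haveI := hS.epi_g
  intro y
  obtain ⟨x₃, hx₃⟩ := h₃ ((EtCore.gsec X).map ((cst X).map S.g) y)
  obtain ⟨x, rfl⟩ := (AddCommGrpCat.epi_iff_surjective S.g).1 inferInstance x₃
  have hn : (EtCore.gsec X).map ((cst X).map S.g) ((EtCore.constAdj X).unit.app S.X₂ x) =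
      (EtCore.constAdj X).unit.app S.X₃ (S.g x) :=
    (ConcreteCategory.congr_hom ((EtCore.constAdj X).unit.naturality S.g) x).symm
  obtain ⟨z, hz⟩ := (ShortComplex.ab_exact_iff _).1 hex (y - (EtCore.constAdj X).unit.app S.X₂ x) (by
    show (EtCore.gsec X).map ((cst X).map S.g) (y - (EtCore.constAdj X).unit.app S.X₂ x) = 0
    rw [map_sub, hn, hx₃, sub_self])
  obtain ⟨w, rfl⟩ := h₁ z
  refine ⟨S.f w + x, ?_⟩
  rw [map_add, ← eq_sub_iff_add_eq, ← hz]
  exact ConcreteCategory.congr_hom ((EtCore.constAdj X).unit.naturality S.f) w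

theorem bijective_unit_zmod (p : ℕ) (hp : p.Prime) [Nonempty X] (e : EtCoh.H X (EtCoh.const X (ZMod p)) 0 ≃+ ZMod p) :
    Function.Bijective ((EtCore.constAdj X).unit.app (AddCommGrpCat.of (ULift.{u + 1} (ZMod p)))) := by
  haveI : NeZero p := ⟨hp.ne_zero⟩
  let E := (Equiv.ofBijective _ (EtContLib.h0Sec_bijective (EtCoh.const X (ZMod p)))).symm.trans e.toEquiv
  haveI : Finite ((cst X ⋙ EtCore.gsec X).obj (AddCommGrpCat.of (ULift.{u + 1} (ZMod p)))) :=
    Finite.of_equiv _ E.symm
  exact (injective_unit X _).bijective_of_nat_card_le <| le_of_eq ((Nat.card_congr E).trans (Nat.card_congr Equiv.ulift).symm)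

/-- On a quasi-compact quasi-separated scheme with the cohomology of a point for the coefficients of allowed
prime order, every allowed torsion group has the cohomology of a point. -/
theorem coeff_of_primes [CompactSpace X] [QuasiSeparatedSpace X] [Nonempty X] (good : ℕ → Prop)
    (hgood : ∀ a n : ℕ, a ∣ n → good n → good a)
    (hp : ∀ p : ℕ, p.Prime → good p → (∀ q : ℕ, 0 < q → Subsingleton (EtCoh.H X (EtCoh.const X (ZMod p)) q)) ∧
      Nonempty (EtCoh.H X (EtCoh.const X (ZMod p)) 0 ≃+ ZMod p))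
    (M : AddCommGrpCat.{u + 1}) (hM : ∀ m : M, ∃ n : ℕ, 0 < n ∧ good n ∧ n • m = 0) :
    (∀ q : ℕ, 0 < q → Subsingleton (EtCoh.H X ((cst X).obj M) q)) ∧
      Function.Bijective ((EtCore.constAdj X).unit.app M) := by
  suffices h : (∀ q : ℕ, 0 < q → Subsingleton (EtCoh.H X ((cst X).obj M) q)) ∧
      Function.Surjective ((EtCore.constAdj X).unit.app M) from ⟨h.1, injective_unit X M, h.2⟩
  refine prop_of_torsion good hgood (fun A => (∀ q : ℕ, 0 < q → Subsingleton (EtCoh.H X ((cst X).obj A) q)) ∧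
    Function.Surjective ((EtCore.constAdj X).unit.app A)) (fun A hA => ?_) (fun S hS h₁ h₃ => ?_)
    (fun p hpp hpg => ?_) (fun A hA => ?_) M hM
  · haveI : (cst X).Additive := (EtCore.constAdj X).left_adjoint_additive
    haveI : (EtCore.gsec X).Additive := (EtCore.constAdj X).right_adjoint_additive
    have hz := (cst X).map_isZero hA
    exact ⟨fun q _ => subsingleton_of_forall_eq 0 fun x => by
        rw [← Ext.comp_mk₀_id x, hz.eq_of_src (𝟙 _) 0, Ext.mk₀_zero, Ext.comp_zero],
      fun y => ⟨0, (AddCommGrpCat.subsingleton_of_isZero ((EtCore.gsec X).map_isZero hz)).elim _ _⟩⟩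
  · haveI : (cst X).Additive := (EtCore.constAdj X).left_adjoint_additive
    exact ⟨fun q hq => subsingleton_H_ext X q (S.map (cst X)) (cst_exact X S hS) (h₁.1 q hq) (h₃.1 q hq),
      surjective_unit_ext X S hS h₁.2 h₃.2⟩
  · obtain ⟨hv, ⟨e⟩⟩ := hp p hpp hpg
    exact ⟨hv, (bijective_unit_zmod X p hpp e).2⟩
  · classical
    obtain ⟨hc⟩ := nonempty_isColimit_genCocone A
    exact ⟨fun q hq => subsingleton_H_of_isColimit X q hc fun S => (hA S).1 q hq,
      surjective_unit_of_isColimit X hc fun S => (hA S).2⟩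

end Groth.Agent.EtAcycBC
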