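import Groth.Agent.EtAcycBC.Tensor
import Groth.Agent.Hensel.TensorHenzFinite
import Mathlib.AlgebraicGeometry.Morphisms.QuasiFinite
import Mathlib.AlgebraicGeometry.Morphisms.Integral

/-!
# Strict localizations of integral and quasi-finite morphisms are integral
-/

set_option autoImplicit false
set_option linter.style.haveILetI false
set_option maxHeartbeats 1000000

universe u

open CategoryTheory CategoryTheory.Limits AlgebraicGeometry Opposite IsLocalRing

namespace Groth.Agent.EtAcycBC

set_option backward.isDefEq.respectTransparency false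
set_option backward.isDefEq.respectTransparency.types false

theorem specOf_base {S : Scheme.{u}} (s : S) (R : Type u) [CommRing R] [IsLocalRing R]
    [Algebra (S.presheaf.stalk s) R] [IsLocalHom (algebraMap (S.presheaf.stalk s) R)] :
    (Hens2.specOf S s R).base (closedPoint R) = s := by
  have e : (Spec.map (CommRingCat.ofHom (algebraMap (S.presheaf.stalk s) R))).base (closedPoint R) =
      closedPoint (S.presheaf.stalk s) :=
    PrimeSpectrum.ext (((local_hom_TFAE (algebraMap (S.presheaf.stalk s) R)).out 0 4).mp ‹_›)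
  show (S.fromSpecStalk s).base ((Spec.map (CommRingCat.ofHom (algebraMap (S.presheaf.stalk s) R))).base _) = s
  rw [e, Scheme.fromSpecStalk_closedPoint]

/-- Integrality of the local ring of a point of the fibre product over the closed point suffices. -/
theorem isIntegral_of_localRing {S' : Scheme.{u}} (s' : S') (RS RS' : Type u) [CommRing RS]
    [HenselianLocalRing RS] [IsSepClosed (ResidueField RS)] [CommRing RS'] [IsLocalRing RS']
    [Algebra (S'.presheaf.stalk s') RS'] [IsLocalHom (algebraMap (S'.presheaf.stalk s') RS')]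
    [Hensel.IsStrictHenselization (S'.presheaf.stalk s') RS'] [Algebra RS RS'] [IsLocalHom (algebraMap RS RS')]
    {T : Scheme.{u}} (t : T ⟶ Spec (CommRingCat.of RS)) (q : T ⟶ S') (l : Spec (CommRingCat.of RS') ⟶ T)
    (hlt : l ≫ t = Spec.map (CommRingCat.ofHom (algebraMap RS RS'))) (hlq : l ≫ q = Hens2.specOf S' s' RS')
    (hint : ∀ (b : CommRingCat.of RS ⟶ T.presheaf.stalk (l.base (closedPoint RS'))),
      Spec.map b = T.fromSpecStalk (l.base (closedPoint RS')) ≫ t → IsLocalHom b.hom → b.hom.IsIntegral) :
    Algebra.IsIntegral RS RS' := by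
  let z := l.base (closedPoint RS')
  let M := T.presheaf.stalk z
  have hqz : q.base z = s' := by
    show (l ≫ q).base (closedPoint RS') = s'
    rw [hlq, specOf_base]
  obtain ⟨f₀, hf₀l, hf₀⟩ := exists_local l z rfl
  haveI : IsLocalHom f₀.hom := hf₀l
  let b : CommRingCat.of RS ⟶ M := Spec.preimage (T.fromSpecStalk z ≫ t)
  have hSb : Spec.map b = T.fromSpecStalk z ≫ t := Spec.map_preimage _
  have hjb : ∀ r, f₀.hom (b.hom r) = algebraMap RS RS' r := by
    have : b ≫ f₀ = CommRingCat.ofHom (algebraMap RS RS') := by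
      refine Spec.map_injective ?_
      rw [Spec.map_comp, hSb, ← Category.assoc, hf₀, hlt]
    exact fun r => ConcreteCategory.congr_hom this r
  haveI hbl : IsLocalHom b.hom := ⟨fun r hr => isUnit_of_map_unit (algebraMap RS RS') r (hjb r ▸ hr.map f₀.hom)⟩
  letI : Algebra RS M := b.hom.toAlgebra
  haveI : IsLocalHom (algebraMap RS M) := hbl
  haveI : Algebra.IsIntegral RS M := ⟨hint b hSb hbl⟩
  haveI : HenselianLocalRing M := Hensel.henselianLocalRing_of_isIntegral_local RS M
  haveI : IsSepClosed (ResidueField M) := (Hensel.residueField_of_isIntegral RS M).1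
  let O' := S'.presheaf.stalk s'
  let a : O' ⟶ M := S'.presheaf.stalkSpecializes (specializes_of_eq hqz) ≫ q.stalkMap z
  have hja : ∀ o, f₀.hom (a.hom o) = algebraMap O' RS' o := by
    have : a ≫ f₀ = CommRingCat.ofHom (algebraMap O' RS') := by
      refine Spec.map_injective ((cancel_mono (S'.fromSpecStalk s')).1 ?_)
      rw [Spec.map_comp, Category.assoc, Spec.map_comp, Category.assoc, Scheme.SpecMap_stalkSpecializes_fromSpecStalk,
        Scheme.SpecMap_stalkMap_fromSpecStalk, ← Category.assoc, hf₀, hlq]
    exact fun o => ConcreteCategory.congr_hom this o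
  haveI : IsLocalHom a.hom := ⟨fun o ho => isUnit_of_map_unit (algebraMap O' RS') o (hja o ▸ ho.map f₀.hom)⟩
  let jr : ResidueField M →+* ResidueField RS' := ResidueField.map f₀.hom
  have hjr : Function.Surjective jr := by
    letI : Algebra (ResidueField M) (ResidueField RS') := jr.toAlgebra
    letI : Algebra (ResidueField O') (ResidueField M) := (ResidueField.map a.hom).toAlgebra
    haveI : IsScalarTower (ResidueField O') (ResidueField M) (ResidueField RS') :=
      IsScalarTower.of_algebraMap_eq fun w => by
        obtain ⟨o, rfl⟩ := residue_surjective w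
        show algebraMap (ResidueField O') (ResidueField RS') (residue O' o) =
          jr (ResidueField.map a.hom (residue O' o))
        rw [ResidueField.algebraMap_residue, ResidueField.map_residue, ResidueField.map_residue, hja]
    haveI := (Hensel.IsStrictHenselization.isSepClosure (R := O') (S := RS')).separable
    haveI : Algebra.IsSeparable (ResidueField M) (ResidueField RS') :=
      Algebra.isSeparable_tower_top_of_isSeparable (ResidueField O') (ResidueField M) (ResidueField RS')
    exact IsSepClosed.algebraMap_surjective (ResidueField M) (ResidueField RS')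
  let er : ResidueField M ≃+* ResidueField RS' := RingEquiv.ofBijective jr ⟨jr.injective, hjr⟩
  obtain ⟨i, ⟨hi₁, hi₂⟩, -⟩ := Hensel.IsStrictHenselization.universal (R := O') (S := RS') M a.hom er.symm.toRingHom (by
    refine RingHom.ext fun w => er.injective ?_
    obtain ⟨o, rfl⟩ := residue_surjective w
    show er (er.symm (ResidueField.map (algebraMap O' RS') (residue O' o))) = _
    rw [er.apply_symm_apply, ResidueField.map_residue, ResidueField.map_residue, ← hja]
    exact (ResidueField.map_residue f₀.hom (a.hom o)).symm)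
  haveI : IsLocalHom i := isLocalHom_of_residue_eq i er.symm.toRingHom hi₂
  haveI : IsLocalHom (f₀.hom.comp i) := RingHom.isLocalHom_comp _ _
  haveI : HenselianLocalRing RS' := Hensel.IsStrictHenselization.henselian (R := O')
  have hji := EtPBC0.eq_of_residue (A := O') (algebraMap O' RS') (f₀.hom.comp i) (RingHom.id RS')
    (RingHom.ext fun o => (congrArg f₀.hom (RingHom.congr_fun hi₁ o)).trans (hja o)) rfl fun y => by
      show residue RS' y = residue RS' (f₀.hom (i y))
      rw [← ResidueField.map_residue f₀.hom, hi₂]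
      exact (er.apply_symm_apply _).symm
  let jA : M →ₐ[RS] RS' := { f₀.hom with commutes' := hjb }
  refine ⟨fun y => ?_⟩
  have e : jA (i y) = y := RingHom.congr_fun hji y
  exact e ▸ (Algebra.IsIntegral.isIntegral (R := RS) (i y)).map jA

/-- Local rings of affine pieces with enough quasi-finite stages are integral over a henselian base. -/
theorem isIntegral_stalk_of_stages {RS : Type u} [CommRing RS] [HenselianLocalRing RS] {T : Scheme.{u}}
    (t : T ⟶ Spec (CommRingCat.of RS)) {W : T.Opens} (hW : IsAffineOpen W) {z : T} (hz : z ∈ W)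
    (hst : ∀ (φ : CommRingCat.of RS ⟶ Γ(T, W)), Spec.map φ = hW.fromSpec ≫ t →
      letI := φ.hom.toAlgebra
      ∀ x y : Γ(T, W), ∃ D₀ : Subalgebra RS Γ(T, W), x ∈ D₀ ∧ y ∈ D₀ ∧ Algebra.FiniteType RS D₀ ∧
        Algebra.QuasiFinite RS D₀)
    (b : CommRingCat.of RS ⟶ T.presheaf.stalk z) (hb : Spec.map b = T.fromSpecStalk z ≫ t) (hbl : IsLocalHom b.hom) :
    b.hom.IsIntegral := by
  let φ : CommRingCat.of RS ⟶ Γ(T, W) := Spec.preimage (hW.fromSpec ≫ t)
  have hφ : Spec.map φ = hW.fromSpec ≫ t := Spec.map_preimage _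
  have hbφ : b = φ ≫ T.presheaf.germ W z hz := by
    refine Spec.map_injective ?_
    rw [hb, Spec.map_comp, hφ, ← hW.fromSpecStalk_eq_fromSpecStalk hz]
    exact Category.assoc _ _ _
  letI : Algebra RS Γ(T, W) := φ.hom.toAlgebra
  letI : Algebra RS (T.presheaf.stalk z) := b.hom.toAlgebra
  letI : Algebra Γ(T, W) (T.presheaf.stalk z) := (T.presheaf.germ W z hz).hom.toAlgebra
  haveI : IsScalarTower RS Γ(T, W) (T.presheaf.stalk z) :=
    IsScalarTower.of_algebraMap_eq fun r => ConcreteCategory.congr_hom hbφ r
  haveI : IsLocalHom (algebraMap RS (T.presheaf.stalk z)) := hbl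
  haveI := hW.isLocalization_stalk ⟨z, hz⟩
  intro w
  obtain ⟨x, y, rfl⟩ := IsLocalization.exists_mk'_eq (hW.primeIdealOf ⟨z, hz⟩).asIdeal.primeCompl w
  obtain ⟨D₀, hx, hy, _, _⟩ := hst φ hφ x (y : Γ(T, W))
  let χ : D₀ →ₐ[RS] T.presheaf.stalk z := (IsScalarTower.toAlgHom RS Γ(T, W) _).comp D₀.val
  exact Hensel.isIntegral_mul_inv_of_stage χ ⟨x, hx⟩ ⟨(y : Γ(T, W)), hy⟩ _
    (IsLocalization.map_units (T.presheaf.stalk z) y) (IsLocalization.mk'_spec _ _ _)

/-- The strict localization of an integral morphism is integral. -/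
theorem isIntegral_strict_of_isIntegralHom {S S' : Scheme.{u}} (g : S' ⟶ S) [IsIntegralHom g] (s : S) (s' : S')
    (RS RS' : Type u) [CommRing RS] [IsLocalRing RS] [Algebra (S.presheaf.stalk s) RS]
    [IsLocalHom (algebraMap (S.presheaf.stalk s) RS)] [Hensel.IsStrictHenselization (S.presheaf.stalk s) RS]
    [CommRing RS'] [IsLocalRing RS'] [Algebra (S'.presheaf.stalk s') RS']
    [IsLocalHom (algebraMap (S'.presheaf.stalk s') RS')] [Hensel.IsStrictHenselization (S'.presheaf.stalk s') RS']
    [Algebra RS RS'] [IsLocalHom (algebraMap RS RS')]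
    (hw : Hens2.specOf S' s' RS' ≫ g = Spec.map (CommRingCat.ofHom (algebraMap RS RS')) ≫ Hens2.specOf S s RS) :
    Algebra.IsIntegral RS RS' := by
  haveI : HenselianLocalRing RS := Hensel.IsStrictHenselization.henselian (R := S.presheaf.stalk s)
  haveI : IsSepClosed (ResidueField RS) :=
    (Hensel.IsStrictHenselization.isSepClosure (R := S.presheaf.stalk s) (S := RS)).sep_closed
  let t := pullback.snd g (Hens2.specOf S s RS)
  haveI : IsIntegralHom t := inferInstanceAs (IsIntegralHom (pullback.snd g (Hens2.specOf S s RS)))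
  refine isIntegral_of_localRing s' RS RS' t (pullback.fst g (Hens2.specOf S s RS)) (pullback.lift _ _ hw)
    (pullback.lift_snd _ _ _) (pullback.lift_fst _ _ _) fun b hb hbl => ?_
  haveI : IsAffine (pullback g (Hens2.specOf S s RS)) := isAffine_of_isAffineHom t
  refine isIntegral_stalk_of_stages t (isAffineOpen_top _) trivial (fun φ hφ => ?_) b hb hbl
  letI := φ.hom.toAlgebra
  haveI : IsIso (isAffineOpen_top (pullback g (Hens2.specOf S s RS))).fromSpec := by
    rw [IsAffineOpen.fromSpec_top]; infer_instance
  haveI : IsIntegralHom (Spec.map φ) := by rw [hφ]; infer_instance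
  haveI : Algebra.IsIntegral RS Γ(pullback g (Hens2.specOf S s RS), ⊤) := ⟨IsIntegralHom.SpecMap_iff.1 ‹_›⟩
  intro x y
  refine ⟨Algebra.adjoin RS {x, y}, Algebra.subset_adjoin (by simp), Algebra.subset_adjoin (by simp), ?_⟩
  haveI : Module.Finite RS (Algebra.adjoin RS {x, y}) :=
    Module.Finite.iff_fg.2 (fg_adjoin_of_finite (Set.toFinite _) fun w _ => Algebra.IsIntegral.isIntegral w)
  exact ⟨inferInstance, inferInstance⟩

/-- The strict localization of a locally quasi-finite morphism of finite type is integral. -/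
theorem isIntegral_strict_of_quasiFinite {S S' : Scheme.{u}} (g : S' ⟶ S) [LocallyQuasiFinite g]
    [LocallyOfFiniteType g] (s : S) (s' : S')
    (RS RS' : Type u) [CommRing RS] [IsLocalRing RS] [Algebra (S.presheaf.stalk s) RS]
    [IsLocalHom (algebraMap (S.presheaf.stalk s) RS)] [Hensel.IsStrictHenselization (S.presheaf.stalk s) RS]
    [CommRing RS'] [IsLocalRing RS'] [Algebra (S'.presheaf.stalk s') RS']
    [IsLocalHom (algebraMap (S'.presheaf.stalk s') RS')] [Hensel.IsStrictHenselization (S'.presheaf.stalk s') RS']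
    [Algebra RS RS'] [IsLocalHom (algebraMap RS RS')]
    (hw : Hens2.specOf S' s' RS' ≫ g = Spec.map (CommRingCat.ofHom (algebraMap RS RS')) ≫ Hens2.specOf S s RS) :
    Algebra.IsIntegral RS RS' := by
  haveI : HenselianLocalRing RS := Hensel.IsStrictHenselization.henselian (R := S.presheaf.stalk s)
  haveI : IsSepClosed (ResidueField RS) :=
    (Hensel.IsStrictHenselization.isSepClosure (R := S.presheaf.stalk s) (S := RS)).sep_closed
  let t := pullback.snd g (Hens2.specOf S s RS)
  haveI : LocallyQuasiFinite t := inferInstanceAs (LocallyQuasiFinite (pullback.snd g (Hens2.specOf S s RS)))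
  haveI : LocallyOfFiniteType t := inferInstanceAs (LocallyOfFiniteType (pullback.snd g (Hens2.specOf S s RS)))
  let l := pullback.lift _ _ hw
  refine isIntegral_of_localRing s' RS RS' t (pullback.fst g (Hens2.specOf S s RS)) l
    (pullback.lift_snd _ _ _) (pullback.lift_fst _ _ _) fun b hb hbl => ?_
  obtain ⟨W, hW, hzW, -⟩ := exists_isAffineOpen_mem_and_subset
    (U := (⊤ : (pullback g (Hens2.specOf S s RS)).Opens)) (x := l.base (closedPoint RS')) trivial
  refine isIntegral_stalk_of_stages t hW hzW (fun φ hφ => ?_) b hb hbl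
  letI := φ.hom.toAlgebra
  haveI : LocallyQuasiFinite (Spec.map φ) := by rw [hφ]; infer_instance
  haveI : LocallyOfFiniteType (Spec.map φ) := by rw [hφ]; infer_instance
  haveI hq : Algebra.QuasiFinite RS Γ(pullback g (Hens2.specOf S s RS), W) :=
    RingHom.quasiFinite_algebraMap.1 ((HasRingHomProperty.Spec_iff (P := @LocallyQuasiFinite) (φ := φ)).1 ‹_›)
  haveI hf : Algebra.FiniteType RS Γ(pullback g (Hens2.specOf S s RS), W) :=
    RingHom.finiteType_algebraMap.1 ((HasRingHomProperty.Spec_iff (P := @LocallyOfFiniteType) (φ := φ)).1 ‹_›)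
  intro x y
  exact ⟨⊤, trivial, trivial, hf.equiv Subalgebra.topEquiv.symm,
    Algebra.QuasiFinite.of_surjective_algHom (Subalgebra.topEquiv.symm.toAlgHom) Subalgebra.topEquiv.symm.surjective⟩

end Groth.Agent.EtAcycBC
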