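import Groth.Agent.EtAcycBC.ConstCoeff
import Groth.Agent.EtFound.PullConst
import Groth.Agent.EtFound.Germ
import Groth.Agent.EtFound.FieldExt
import Groth.Agent.EtFound.PullStalk
import Groth.Agent.EtLARel.Main
import Groth.Prelude.Def_EtRestW

/-!
# Locally constant sheaves on a strict localization are constant; local acyclicity relative to them
-/

set_option autoImplicit false
set_option linter.style.haveILetI false
set_option maxHeartbeats 1000000

universe u

open CategoryTheory CategoryTheory.Limits AlgebraicGeometry Opposite CategoryTheory.Abelian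
open scoped TensorProduct

namespace Groth.Agent.EtAcycBC

set_option backward.isDefEq.respectTransparency false
set_option backward.isDefEq.respectTransparency.types false

/-- The map from a constant sheaf given by sections constant over the whole scheme is an isomorphism. -/
theorem nonempty_cst_iso_of_constBy {X : Scheme.{u}} {G : EtCoh.Ab X} {M : AddCommGrpCat.{u + 1}}
    {φ : M ⟶ G.obj.obj (op (EtCoh.top X))} (hφ : EtFound.ConstBy G φ) : Nonempty ((cst X).obj M ≅ G) := by
  let h : (cst X).obj M ⟶ G := ((EtCore.constAdj X).homEquiv M G).symm φ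
  have hsec : ∀ m : M, h.hom.app (op (EtCoh.top X))
      ((toSheafify X.smallEtaleTopology ((Functor.const X.Etaleᵒᵖ).obj M)).app (op (EtCoh.top X)) m) = φ m := by
    intro m
    have e := ((EtCore.constAdj X).homEquiv M G).apply_symm_apply φ
    rw [Adjunction.homEquiv_unit] at e
    rw [← unit_eq_toSheafify]
    exact ConcreteCategory.congr_hom e m
  haveI : IsIso h := by
    refine (EtFound.isIso_iff_stalks h).2 fun Ω _ _ ξ => ?_
    let Ω' := AlgebraicClosure Ω
    let l := Spec.map (CommRingCat.ofHom (algebraMap Ω Ω'))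
    refine (NatIso.isIso_map_iff (EtFound.stalkExtIso AddCommGrpCat.{u + 1} ξ l) h).2 ?_
    refine (ConcreteCategory.isIso_iff_bijective _).2 ?_
    let ξ' := l ≫ ξ
    let z : (Scheme.pointSmallEtale ξ').fiber.obj (EtCoh.top X) :=
      CategoryTheory.Over.homMk ξ' (Category.comp_id _)
    have hg := EtFound.toSheafify_const_germ_bijective ξ' AddCommGrpCat.{u + 1} M (EtCoh.top X) z
    refine (Function.Bijective.of_comp_iff _ hg).1 ?_
    have key : ∀ m : M, ((EtCoh.stalk ξ').map h) ((Scheme.pointSmallEtale ξ').toPresheafFiber (EtCoh.top X) z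
        ((cst X).obj M).obj ((toSheafify X.smallEtaleTopology ((Functor.const X.Etaleᵒᵖ).obj M)).app (op (EtCoh.top X)) m)) =
        (φ ≫ (Scheme.pointSmallEtale ξ').toPresheafFiber (EtCoh.top X) z G.obj) m := fun m =>
      ((Scheme.pointSmallEtale ξ').toPresheafFiber_naturality_apply h.hom (EtCoh.top X) z _).trans
        ((congrArg _ (hsec m)).trans (ConcreteCategory.comp_apply _ _ _).symm)
    obtain ⟨hi, hs⟩ := hφ Ω' ξ' z
    exact ⟨fun a b hab => hi ((key a).symm.trans (hab.trans (key b))), fun y => let ⟨m, hm⟩ := hs y; ⟨m, (key m).trans hm⟩⟩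
  exact ⟨asIso h⟩

/-- The inverse image of a locally constant sheaf on a strictly henselian local scheme is constant. -/
theorem exists_cst_iso_pull {X : Scheme.{u}} {F : EtCoh.Ab X} (hF : EtRest.IsLocallyConstant F) (R : Type u)
    [CommRing R] [HenselianLocalRing R] [IsSepClosed (IsLocalRing.ResidueField R)]
    (a : Spec (CommRingCat.of R) ⟶ X) :
    ∃ M : AddCommGrpCat.{u + 1}, Nonempty ((cst (Spec (CommRingCat.of R))).obj M ≅ (EtCoh.pull a).obj F) := by
  obtain ⟨ι, U, hU, hiso⟩ := hF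
  obtain ⟨i, w, hw⟩ := EtFound.covers_bc a hU (IsLocalRing.closedPoint R)
  obtain ⟨M, _, ⟨e⟩⟩ := hiso i
  obtain ⟨φ, hφ⟩ := EtFound.exists_constBy e
  let V := (EtCoh.bc a).obj (U i)
  let g₀ : V ⟶ EtCoh.top (Spec (CommRingCat.of R)) := (EtCore.topIsTerminal _).from V
  obtain ⟨v, -, -⟩ := EtFound.exists_lift_point g₀ (EtFound.cptTop R) w (by
    have hl : g₀.left ≫ 𝟙 _ = V.hom := MorphismProperty.Over.w g₀
    rw [Category.comp_id] at hl
    rw [hl]
    exact hw.trans (EtFound.cpt_base R default).symm)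
  obtain ⟨g, -, -⟩ := EtFound.existsUnique_hom R V v
  exact ⟨AddCommGrpCat.of M, nonempty_cst_iso_of_constBy ((EtFound.constBy_pull a hφ).restrict g)⟩

/-- The value group embeds into the geometric stalk of the original sheaf. -/
theorem exists_injective_to_stalk {X : Scheme.{u}} {F : EtCoh.Ab X} {R : Type u} [CommRing R] [HenselianLocalRing R]
    [IsSepClosed (IsLocalRing.ResidueField R)] (a : Spec (CommRingCat.of R) ⟶ X) {M : AddCommGrpCat.{u + 1}}
    (e : (cst (Spec (CommRingCat.of R))).obj M ≅ (EtCoh.pull a).obj F) :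
    ∃ j : M →+ (EtCoh.stalk (EtFound.cpt R ≫ a)).obj F, Function.Injective j := by
  let i := (EtCoh.stalk (EtFound.cpt R)).mapIso e ≪≫ (EtFound.stalkPullIso a (EtFound.cpt R)).app F
  let γ : M ⟶ (EtCoh.stalk (EtFound.cpt R)).obj ((cst (Spec (CommRingCat.of R))).obj M) :=
    (EtCore.constAdj (Spec (CommRingCat.of R))).unit.app M ≫ (Scheme.pointSmallEtale (EtFound.cpt R)).toPresheafFiber
      (EtCoh.top (Spec (CommRingCat.of R))) (EtFound.cptTop R) ((cst (Spec (CommRingCat.of R))).obj M).obj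
  refine ⟨(γ ≫ i.hom).hom, ?_⟩
  have h₁ : Function.Injective γ := by
    intro x y h
    refine (bijective_unit_strict R M).1 ((EtFound.toPresheafFiber_top_bijective R _).1 ?_)
    exact (ConcreteCategory.comp_apply _ _ _).symm.trans (h.trans (ConcreteCategory.comp_apply _ _ _))
  intro x y h
  exact h₁ ((ConcreteCategory.bijective_of_isIso i.hom).1 h)

/-- A locally acyclic morphism is locally acyclic relative to locally constant sheaves with torsion prime to the
residue characteristics. -/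
theorem bijective_Hpull_locConst {X S : Scheme.{u}} (f : X ⟶ S) (hf : EtRest.IsLocallyAcyclic f) (F : EtCoh.Ab X)
    (hF : EtRest.IsLocallyConstant F)
    (htor : ∀ (Ω : Type u) [Field Ω] [IsSepClosed Ω] (ξ : Spec (CommRingCat.of Ω) ⟶ X)
      (s : (EtCoh.stalk ξ).obj F), ∃ n : ℕ, 0 < n ∧ (n : Ω) ≠ 0 ∧ n • s = 0)
    (x : X) (RS RX : Type u) [CommRing RS] [CommRing RX] [IsLocalRing RS] [IsLocalRing RX]
    [Algebra (S.presheaf.stalk (f.base x)) RS] [IsLocalHom (algebraMap (S.presheaf.stalk (f.base x)) RS)]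
    [Hensel.IsStrictHenselization (S.presheaf.stalk (f.base x)) RS]
    [Algebra (X.presheaf.stalk x) RX] [IsLocalHom (algebraMap (X.presheaf.stalk x) RX)]
    [Hensel.IsStrictHenselization (X.presheaf.stalk x) RX]
    [Algebra RS RX] [IsLocalHom (algebraMap RS RX)]
    (hc : (algebraMap RS RX).comp (algebraMap (S.presheaf.stalk (f.base x)) RS) =
      (algebraMap (X.presheaf.stalk x) RX).comp (f.stalkMap x).hom)
    (Ω : Type u) [Field Ω] [IsSepClosed Ω] [Algebra RS Ω] (a : Spec (CommRingCat.of RX) ⟶ X)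
    (m : Spec (CommRingCat.of (EtRest.vcRing RS RX Ω)) ⟶ Spec (CommRingCat.of RX))
    [PreservesFiniteLimits (EtCoh.pull m)] (q : ℕ) :
    Function.Bijective (EtCore.Hpull m ((EtCoh.pull a).obj F) q) := by
  haveI : HenselianLocalRing RX := Hensel.IsStrictHenselization.henselian (R := X.presheaf.stalk x)
  haveI : IsSepClosed (IsLocalRing.ResidueField RX) :=
    (Hensel.IsStrictHenselization.isSepClosure (R := X.presheaf.stalk x) (S := RX)).sep_closed
  let good : ℕ → Prop := fun n => (n : IsLocalRing.ResidueField RX) ≠ 0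
  have hgood : ∀ b n : ℕ, b ∣ n → good n → good b := by
    rintro b n ⟨c, rfl⟩ hn hb
    exact hn (by rw [Nat.cast_mul, hb, zero_mul])
  let ρ : X.residueField x →+* IsLocalRing.ResidueField RX :=
    IsLocalRing.ResidueField.map (algebraMap (X.presheaf.stalk x) RX)
  have hx : ∀ n : ℕ, good n → (n : X.residueField x) ≠ 0 := fun n hn h0 => hn (by
    have := congrArg ρ h0
    rwa [map_natCast, map_zero] at this)
  obtain ⟨M, ⟨e⟩⟩ := exists_cst_iso_pull hF RX a
  obtain ⟨j, hj⟩ := exists_injective_to_stalk a e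
  have hM : ∀ z : M, ∃ n : ℕ, 0 < n ∧ good n ∧ n • z = 0 := fun z => by
    obtain ⟨n, h₁, h₂, h₃⟩ := htor _ (EtFound.cpt RX ≫ a) (j z)
    exact ⟨n, h₁, h₂, hj (by rw [map_nsmul, map_zero]; exact h₃)⟩
  have hp : ∀ p : ℕ, p.Prime → good p →
      (∀ q : ℕ, 0 < q → Subsingleton (EtCoh.H (Spec (CommRingCat.of (EtRest.vcRing RS RX Ω)))
        (EtCoh.const _ (ZMod p)) q)) ∧
      Nonempty (EtCoh.H (Spec (CommRingCat.of (EtRest.vcRing RS RX Ω))) (EtCoh.const _ (ZMod p)) 0 ≃+ ZMod p) :=
    fun p _ hp => hf x RS RX hc Ω p (hx p hp)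
  haveI : Nonempty (Spec (CommRingCat.of (EtRest.vcRing RS RX Ω))) := by
    obtain ⟨p, hp₁, hp₂⟩ : ∃ p : ℕ, p.Prime ∧ good p := by
      by_cases h2 : good 2
      · exact ⟨2, Nat.prime_two, h2⟩
      · refine ⟨3, Nat.prime_three, fun h3 => ?_⟩
        have h2' : ((2 : ℕ) : IsLocalRing.ResidueField RX) = 0 := not_not.1 h2
        have : ((3 : ℕ) : IsLocalRing.ResidueField RX) = ((2 : ℕ) : IsLocalRing.ResidueField RX) + 1 := by
          push_cast; norm_num
        rw [h3, h2', zero_add] at this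
        exact one_ne_zero this.symm
    obtain ⟨-, ⟨e₀⟩⟩ := hp p hp₁ hp₂
    haveI : Fact (1 < p) := ⟨hp₁.one_lt⟩
    haveI : Nontrivial (EtCoh.H (Spec (CommRingCat.of (EtRest.vcRing RS RX Ω))) (EtCoh.const _ (ZMod p)) 0) :=
      e₀.toEquiv.nontrivial
    exact nonempty_of_nontrivial_H0 _ (EtCoh.const _ (ZMod p))
  obtain ⟨hv, hb⟩ := coeff_of_primes _ good hgood hp M hM
  refine EtLARel.bijective_Hpull_of_iso m e q ?_
  obtain rfl | hq := Nat.eq_zero_or_pos q
  · exact bijective_Hpull_zero m _ (bijective_pullSec_const m M (bijective_unit_strict RX M) hb)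
  · haveI : Subsingleton (EtCoh.H (Spec (CommRingCat.of RX)) ((cst _).obj M) q) := by
      obtain ⟨k, rfl⟩ := Nat.exists_eq_succ_of_ne_zero hq.ne'
      exact subsingleton_H_henselian RX _ k
    haveI : Subsingleton (EtCoh.H (Spec (CommRingCat.of (EtRest.vcRing RS RX Ω)))
        ((EtCoh.pull m).obj ((cst _).obj M)) q) :=
      subsingleton_H_of_iso ((EtCore.pullConstIso m).app M).symm q (hv q hq)
    exact ⟨fun _ _ _ => Subsingleton.elim _ _, fun y => ⟨0, Subsingleton.elim _ _⟩⟩

end Groth.Agent.EtAcycBC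

namespace Groth.Agent.EtAcycBC

theorem bijective_HpullVia_of_Hpull {P Q Z : Scheme.{u}} (m : P ⟶ Q) (t : Q ⟶ Z) (f₀ : P ⟶ Z) (w : m ≫ t = f₀)
    [PreservesFiniteLimits (EtCoh.pull m)] (G : EtCoh.Ab Z) (q : ℕ)
    (h : Function.Bijective (EtCore.Hpull m ((EtCoh.pull t).obj G) q)) :
    Function.Bijective (EtCore.HpullVia m t f₀ w G q) :=
  (ConcreteCategory.bijective_of_isIso
    ((EtCoh.HF P q).map (((EtCore.pullComp m t).symm ≪≫ EtCore.pullCongr w).app G).hom)).comp h

end Groth.Agent.EtAcycBC
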