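import Groth.Agent.EtAcycBC.Integral
import Groth.Agent.EtPBC0.AcycLoc
import Groth.Agent.EtContLib.ThenOps
import Groth.Prelude.Def_EtRestW

/-!
# Locally acyclic morphisms and base changes with integral strict localizations
-/

set_option autoImplicit false
set_option linter.style.haveILetI false
set_option maxHeartbeats 1000000

universe u

open CategoryTheory CategoryTheory.Limits AlgebraicGeometry Opposite IsLocalRing
open scoped TensorProduct

namespace Groth.Agent.EtAcycBC

set_option backward.isDefEq.respectTransparency false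
set_option backward.isDefEq.respectTransparency.types false

theorem specOf_sq {S S' : Scheme.{u}} (g : S' ⟶ S) (t : S) (s' : S') (φS : S.presheaf.stalk t ⟶ S'.presheaf.stalk s')
    (hφS : Spec.map φS ≫ S.fromSpecStalk t = S'.fromSpecStalk s' ≫ g) (R R' : Type u) [CommRing R] [CommRing R']
    [Algebra (S.presheaf.stalk t) R] [Algebra (S'.presheaf.stalk s') R'] (ψ : R →+* R')
    (hψ : ψ.comp (algebraMap (S.presheaf.stalk t) R) = (algebraMap (S'.presheaf.stalk s') R').comp φS.hom) :
    Hens2.specOf S' s' R' ≫ g = Spec.map (CommRingCat.ofHom ψ) ≫ Hens2.specOf S t R := by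
  simp only [Hens2.specOf, Category.assoc]
  rw [← hφS, ← Spec.map_comp_assoc, ← Spec.map_comp_assoc]
  exact congrArg (fun q => Spec.map q ≫ S.fromSpecStalk t) (CommRingCat.hom_ext hψ.symm)

theorem isLocalHom_specializes_stalkMap {S S' : Scheme.{u}} (g : S' ⟶ S) (s' : S') (t : S) (h : g.base s' = t) :
    IsLocalHom (S.presheaf.stalkSpecializes (specializes_of_eq h) ≫ g.stalkMap s').hom := by
  subst h
  rw [TopCat.Presheaf.stalkSpecializes_refl, Category.id_comp]
  infer_instance

theorem nonempty_equiv_H_of_isIso {A B : Scheme.{u}} (i : A ⟶ B) [IsIso i] (M : Type) [AddCommGroup M] (q : ℕ) :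
    Nonempty (EtCoh.H B (EtCoh.const B M) q ≃+ EtCoh.H A (EtCoh.const A M) q) := by
  haveI := EtContLib.pfl i
  exact ⟨(AddEquiv.ofBijective (EtCore.Hpull i (EtCoh.const B M) q)
    (EtPBC0.AcycComp.bijective_Hpull_of_isIso i (EtCoh.const B M) q)).trans
      ((EtCoh.HF A q).mapIso (EtCore.pullConst i M)).addCommGroupIsoToAddEquiv⟩

/-- Local acyclicity is stable under base changes whose strict localizations are integral. -/
theorem isLocallyAcyclic_snd {X S S' : Scheme.{u}} (f : X ⟶ S) (g : S' ⟶ S) (hf : EtRest.IsLocallyAcyclic f)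
    (hint : ∀ (s : S) (s' : S') (RS RS' : Type u) [CommRing RS] [IsLocalRing RS] [Algebra (S.presheaf.stalk s) RS]
      [IsLocalHom (algebraMap (S.presheaf.stalk s) RS)] [Hensel.IsStrictHenselization (S.presheaf.stalk s) RS]
      [CommRing RS'] [IsLocalRing RS'] [Algebra (S'.presheaf.stalk s') RS']
      [IsLocalHom (algebraMap (S'.presheaf.stalk s') RS')] [Hensel.IsStrictHenselization (S'.presheaf.stalk s') RS']
      [Algebra RS RS'] [IsLocalHom (algebraMap RS RS')],
      Hens2.specOf S' s' RS' ≫ g = Spec.map (CommRingCat.ofHom (algebraMap RS RS')) ≫ Hens2.specOf S s RS →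
        Algebra.IsIntegral RS RS') :
    EtRest.IsLocallyAcyclic (pullback.snd f g) := by
  intro x' RS' RX' _ _ _ _ _ _ _ _ _ _ _ _ hc Ω _ _ _ n hn
  let p := pullback.fst f g
  let f' := pullback.snd f g
  let x := p.base x'
  let s' := f'.base x'
  have hgs : g.base s' = f.base x := by
    show (f' ≫ g).base x' = (p ≫ f).base x'
    rw [pullback.condition]
  let φS : S.presheaf.stalk (f.base x) ⟶ S'.presheaf.stalk s' :=
    S.presheaf.stalkSpecializes (specializes_of_eq hgs) ≫ g.stalkMap s'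
  have hφS : Spec.map φS ≫ S.fromSpecStalk (f.base x) = S'.fromSpecStalk s' ≫ g := by
    rw [Spec.map_comp, Category.assoc, Scheme.SpecMap_stalkSpecializes_fromSpecStalk,
      Scheme.SpecMap_stalkMap_fromSpecStalk]
  haveI : IsLocalHom φS.hom := isLocalHom_specializes_stalkMap g s' (f.base x) hgs
  have hsq : φS ≫ f'.stalkMap x' = f.stalkMap x ≫ p.stalkMap x' := by
    refine Spec.map_injective ((cancel_mono (S.fromSpecStalk (f.base x))).1 ?_)
    rw [Spec.map_comp, Category.assoc, hφS, ← Category.assoc, Scheme.SpecMap_stalkMap_fromSpecStalk, Category.assoc,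
      Spec.map_comp, Category.assoc (Spec.map (p.stalkMap x')), Scheme.SpecMap_stalkMap_fromSpecStalk,
      ← Category.assoc (Spec.map (p.stalkMap x')), Scheme.SpecMap_stalkMap_fromSpecStalk, Category.assoc,
      pullback.condition]
  let RS := Hensel.StrictHenz (S.presheaf.stalk (f.base x))
  let RX := Hensel.StrictHenz (X.presheaf.stalk x)
  haveI : HenselianLocalRing RS' := Hensel.IsStrictHenselization.henselian (R := S'.presheaf.stalk s')
  haveI : IsSepClosed (ResidueField RS') :=
    (Hensel.IsStrictHenselization.isSepClosure (R := S'.presheaf.stalk s') (S := RS')).sep_closed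
  haveI : HenselianLocalRing RX' := Hensel.IsStrictHenselization.henselian (R := (pullback f g).presheaf.stalk x')
  haveI : IsSepClosed (ResidueField RX') :=
    (Hensel.IsStrictHenselization.isSepClosure (R := (pullback f g).presheaf.stalk x') (S := RX')).sep_closed
  obtain ⟨ψ₁, l₁, h₁⟩ := EtPBC0.exists_strictHenz_hom φS.hom RS RS'
  haveI : IsLocalHom ((algebraMap RS' RX').comp ψ₁) := RingHom.isLocalHom_comp _ _
  obtain ⟨ψX, φ, lX, lφ, hψX, hφ, hφψ⟩ := EtPBC0.AcycLoc.exists_factor (f.stalkMap x).hom (p.stalkMap x').hom RS RX RX'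
    ((algebraMap RS' RX').comp ψ₁) (by
      rw [RingHom.comp_assoc, h₁, ← RingHom.comp_assoc, hc, RingHom.comp_assoc]
      exact congrArg (fun q => (algebraMap ((pullback f g).presheaf.stalk x') RX').comp q)
        (congrArg CommRingCat.Hom.hom hsq))
  letI : Algebra RS RS' := ψ₁.toAlgebra
  haveI : IsLocalHom (algebraMap RS RS') := l₁
  letI : Algebra RS RX := ψX.toAlgebra
  haveI : IsLocalHom (algebraMap RS RX) := lX
  letI : Algebra RS RX' := ((algebraMap RS' RX').comp ψ₁).toAlgebra
  haveI : IsScalarTower RS RS' RX' := IsScalarTower.of_algebraMap_eq fun _ => rfl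
  let φA : RX →ₐ[RS] RX' := { φ with commutes' := fun r => RingHom.congr_fun hφψ r }
  haveI : IsLocalHom φA.toRingHom := lφ
  have hS := specOf_sq g (f.base x) s' φS hφS RS RS' ψ₁ h₁
  haveI : Algebra.IsIntegral RS RS' := hint (f.base x) s' RS RS' hS
  have hX : Hens2.specOf X x RX ≫ f = Spec.map (CommRingCat.ofHom ψX) ≫ Hens2.specOf S (f.base x) RS :=
    specOf_sq f (f.base x) x (f.stalkMap x) (Scheme.SpecMap_stalkMap_fromSpecStalk f) RS RX ψX hψX
  have hX' : Hens2.specOf (pullback f g) x' RX' ≫ f' =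
      Spec.map (CommRingCat.ofHom (algebraMap RS' RX')) ≫ Hens2.specOf S' s' RS' :=
    specOf_sq f' s' x' (f'.stalkMap x') (Scheme.SpecMap_stalkMap_fromSpecStalk f') RS' RX' _ hc
  have hp : Hens2.specOf (pullback f g) x' RX' ≫ p = Spec.map (CommRingCat.ofHom φ) ≫ Hens2.specOf X x RX :=
    specOf_sq p x x' (p.stalkMap x') (Scheme.SpecMap_stalkMap_fromSpecStalk p) RX RX' φ hφ
  obtain ⟨e⟩ := exists_tensor_equiv f p f' g (IsPullback.of_hasPullback f g) x' RS RX RS' RX' φA hS hX hX' hp
  letI : Algebra RS Ω := ((algebraMap RS' Ω).comp ψ₁).toAlgebra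
  haveI : IsScalarTower RS RS' Ω := IsScalarTower.of_algebraMap_eq fun _ => rfl
  let ε : (RX' ⊗[RS'] Ω) ≃+* (RX ⊗[RS] Ω) :=
    ((Algebra.TensorProduct.comm RS' RX' Ω).toRingEquiv.trans
      (Algebra.TensorProduct.congr (AlgEquiv.refl : Ω ≃ₐ[RS'] Ω) e.symm).toRingEquiv).trans
      ((Algebra.TensorProduct.cancelBaseChange RS RS' RS' Ω RX).toRingEquiv.trans
        (Algebra.TensorProduct.comm RS Ω RX).toRingEquiv)
  let i : Spec (CommRingCat.of (RX' ⊗[RS'] Ω)) ⟶ Spec (CommRingCat.of (RX ⊗[RS] Ω)) :=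
    Spec.map ε.symm.toCommRingCatIso.hom
  haveI : IsIso i := inferInstanceAs (IsIso (Spec.map ε.symm.toCommRingCatIso.hom))
  have hn' : (n : X.residueField x) ≠ 0 := fun h0 => hn (by
    have := congrArg (Scheme.Hom.residueFieldMap p x').hom h0
    rwa [map_natCast, map_zero] at this)
  obtain ⟨hv, ⟨e₀⟩⟩ := hf x RS RX hψX Ω n hn'
  refine ⟨fun q hq => ?_, ?_⟩
  · haveI := hv q hq
    obtain ⟨ei⟩ := nonempty_equiv_H_of_isIso i (ZMod n) q
    exact ei.symm.toEquiv.subsingleton
  · obtain ⟨ei⟩ := nonempty_equiv_H_of_isIso i (ZMod n) 0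
    exact ⟨ei.symm.trans e₀⟩

end Groth.Agent.EtAcycBC
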