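import Groth.Agent.EtPBC0.StrictTensor
import Groth.Prelude.Def_Hens2

/-!
# Strict henselizations of a fibre product along a base change with integral strict localizations
-/

set_option autoImplicit false
set_option linter.style.haveILetI false
set_option maxHeartbeats 1000000

universe u

open CategoryTheory CategoryTheory.Limits AlgebraicGeometry Opposite IsLocalRing
open scoped TensorProduct

namespace Groth.Agent.EtAcycBC

set_option backward.isDefEq.respectTransparency false
set_option backward.isDefEq.respectTransparency.types false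

theorem isLocalHom_of_residue_eq {S T : Type u} [CommRing S] [IsLocalRing S] [CommRing T] [IsLocalRing T] (g : S →+* T)
    (τ : ResidueField S →+* ResidueField T) (h : ∀ x, residue T (g x) = τ (residue S x)) : IsLocalHom g :=
  ⟨fun x hx => by
    by_contra hux
    have h1 := h x
    rw [(residue_eq_zero_iff x).2 hux, map_zero] at h1
    exact (residue_eq_zero_iff (g x)).1 h1 hx⟩

theorem sq_comp {P A B C D S : Scheme.{u}} (x : P ⟶ A) (y : P ⟶ B) (a : A ⟶ C) (a' : B ⟶ D) {E : Scheme.{u}}
    (b : A ⟶ E) (b' : B ⟶ E) (s : E ⟶ S) (f : C ⟶ S) (g : D ⟶ S)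
    (h₁ : a ≫ f = b ≫ s) (h₂ : a' ≫ g = b' ≫ s) (e : x ≫ b = y ≫ b') : (x ≫ a) ≫ f = (y ≫ a') ≫ g := by
  rw [Category.assoc, h₁, Category.assoc, h₂, reassoc_of% e]

theorem specMap_tensor (R A B : Type u) [CommRing R] [CommRing A] [CommRing B] [Algebra R A] [Algebra R B] :
    Spec.map (CommRingCat.ofHom (Algebra.TensorProduct.includeRight : B →ₐ[R] A ⊗[R] B).toRingHom) ≫
        Spec.map (CommRingCat.ofHom (algebraMap R B)) =
      Spec.map (CommRingCat.ofHom (algebraMap A (A ⊗[R] B))) ≫ Spec.map (CommRingCat.ofHom (algebraMap R A)) := by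
  rw [← Spec.map_comp, ← Spec.map_comp]
  refine congrArg Spec.map (CommRingCat.hom_ext (RingHom.ext fun r => ?_))
  show (1 : A) ⊗ₜ[R] algebraMap R B r = algebraMap R A r ⊗ₜ[R] (1 : B)
  rw [Algebra.algebraMap_eq_smul_one, ← TensorProduct.smul_tmul, ← Algebra.algebraMap_eq_smul_one]

theorem exists_local {Y : Scheme.{u}} {R : Type u} [CommRing R] [IsLocalRing R] (l : Spec (CommRingCat.of R) ⟶ Y) :
    ∀ (y : Y) (_ : l.base (closedPoint R) = y), ∃ f₀ : Y.presheaf.stalk y ⟶ CommRingCat.of R,
      IsLocalHom f₀.hom ∧ Spec.map f₀ ≫ Y.fromSpecStalk y = l := by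
  rintro y rfl
  exact ⟨Scheme.stalkClosedPointTo l, Scheme.isLocalHom_stalkClosedPointTo' l,
    Scheme.Spec_stalkClosedPointTo_fromSpecStalk l⟩

/-- A local henselian ring receiving both strict henselizations compatibly is the one upstairs. -/
theorem bijective_cocone {X S X' S' : Scheme.{u}} (f : X ⟶ S) (p : X' ⟶ X) (f' : X' ⟶ S') (g : S' ⟶ S)
    (sq : IsPullback p f' f g) (x' : X') (RX RS' RX' : Type u) [CommRing RX] [IsLocalRing RX] [CommRing RS']
    [IsLocalRing RS'] [CommRing RX'] [IsLocalRing RX']
    [Algebra (X.presheaf.stalk (p.base x')) RX] [IsLocalHom (algebraMap (X.presheaf.stalk (p.base x')) RX)]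
    [Hensel.IsStrictHenselization (X.presheaf.stalk (p.base x')) RX]
    [Algebra (S'.presheaf.stalk (f'.base x')) RS'] [IsLocalHom (algebraMap (S'.presheaf.stalk (f'.base x')) RS')]
    [Hensel.IsStrictHenselization (S'.presheaf.stalk (f'.base x')) RS']
    [Algebra (X'.presheaf.stalk x') RX'] [IsLocalHom (algebraMap (X'.presheaf.stalk x') RX')]
    [Hensel.IsStrictHenselization (X'.presheaf.stalk x') RX']
    (φ : RX →+* RX') [IsLocalHom φ] (ψL : RS' →+* RX') [IsLocalHom ψL]
    (hX' : Hens2.specOf X' x' RX' ≫ f' = Spec.map (CommRingCat.ofHom ψL) ≫ Hens2.specOf S' (f'.base x') RS')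
    (hφ : Hens2.specOf X' x' RX' ≫ p = Spec.map (CommRingCat.ofHom φ) ≫ Hens2.specOf X (p.base x') RX)
    (M : Type u) [CommRing M] [HenselianLocalRing M] [IsSepClosed (ResidueField M)]
    (incR : RX →+* M) [IsLocalHom incR] (incL : RS' →+* M) [IsLocalHom incL] (j : M →+* RX') [IsLocalHom j]
    (hjR : ∀ y, j (incR y) = φ y) (hjL : ∀ n, j (incL n) = ψL n)
    (w₁ : (Spec.map (CommRingCat.ofHom incR) ≫ Hens2.specOf X (p.base x') RX) ≫ f =
      (Spec.map (CommRingCat.ofHom incL) ≫ Hens2.specOf S' (f'.base x') RS') ≫ g)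
    (hgen : ∀ h h' : M →+* M, (∀ y, h (incR y) = h' (incR y)) → (∀ n, h (incL n) = h' (incL n)) → h = h') :
    Function.Bijective j := by
  let OX := X.presheaf.stalk (p.base x')
  let OS' := S'.presheaf.stalk (f'.base x')
  let O' := X'.presheaf.stalk x'
  have hjloc : IsLocalHom j := inferInstance
  let l : Spec (CommRingCat.of M) ⟶ X' := sq.lift _ _ w₁
  have hjl : Spec.map (CommRingCat.ofHom j) ≫ l = Hens2.specOf X' x' RX' := by
    refine sq.hom_ext ?_ ?_
    · rw [Category.assoc, sq.lift_fst, hφ, ← Spec.map_comp_assoc]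
      exact congrArg (fun q => Spec.map q ≫ Hens2.specOf X (p.base x') RX) (CommRingCat.hom_ext (RingHom.ext hjR))
    · rw [Category.assoc, sq.lift_snd, hX', ← Spec.map_comp_assoc]
      exact congrArg (fun q => Spec.map q ≫ Hens2.specOf S' (f'.base x') RS') (CommRingCat.hom_ext (RingHom.ext hjL))
  have hlx : l.base (closedPoint M) = x' := by
    have h := congrArg (fun q : Spec (CommRingCat.of RX') ⟶ X' => q.base (closedPoint RX')) hjl
    have e₁ : (Spec.map (CommRingCat.ofHom j)).base (closedPoint RX') = closedPoint M :=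
      PrimeSpectrum.ext (((local_hom_TFAE j).out 0 4).mp hjloc)
    have e₂ : (Spec.map (CommRingCat.ofHom (algebraMap O' RX'))).base (closedPoint RX') = closedPoint O' :=
      PrimeSpectrum.ext (((local_hom_TFAE (algebraMap O' RX')).out 0 4).mp ‹_›)
    change l.base ((Spec.map (CommRingCat.ofHom j)).base (closedPoint RX')) =
      (X'.fromSpecStalk x').base ((Spec.map (CommRingCat.ofHom (algebraMap O' RX'))).base (closedPoint RX')) at h
    rw [e₁, e₂, Scheme.fromSpecStalk_closedPoint] at h
    exact h
  obtain ⟨f₀, hf₀l, hf₀⟩ := exists_local l x' hlx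
  have hjf : f₀ ≫ CommRingCat.ofHom j = CommRingCat.ofHom (algebraMap O' RX') := by
    refine Spec.map_injective ((cancel_mono (X'.fromSpecStalk x')).1 ?_)
    rw [Spec.map_comp, Category.assoc, hf₀, hjl]
  have hjf' : ∀ o, j (f₀.hom o) = algebraMap O' RX' o := fun o => ConcreteCategory.congr_hom hjf o
  haveI : IsLocalHom f₀.hom := hf₀l
  -- residue fields
  let jr : ResidueField M →+* ResidueField RX' := ResidueField.map j
  have hjr : Function.Surjective jr := by
    letI : Algebra (ResidueField M) (ResidueField RX') := jr.toAlgebra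
    letI : Algebra (ResidueField O') (ResidueField M) := (ResidueField.map f₀.hom).toAlgebra
    haveI : IsScalarTower (ResidueField O') (ResidueField M) (ResidueField RX') :=
      IsScalarTower.of_algebraMap_eq fun z => by
        obtain ⟨o, rfl⟩ := residue_surjective z
        show algebraMap (ResidueField O') (ResidueField RX') (residue O' o) =
          jr (ResidueField.map f₀.hom (residue O' o))
        rw [ResidueField.algebraMap_residue, ResidueField.map_residue, ResidueField.map_residue, hjf']
    haveI := (Hensel.IsStrictHenselization.isSepClosure (R := O') (S := RX')).separable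
    haveI : Algebra.IsSeparable (ResidueField M) (ResidueField RX') :=
      Algebra.isSeparable_tower_top_of_isSeparable (ResidueField O') (ResidueField M) (ResidueField RX')
    exact IsSepClosed.algebraMap_surjective (ResidueField M) (ResidueField RX')
  let er : ResidueField M ≃+* ResidueField RX' := RingEquiv.ofBijective jr ⟨jr.injective, hjr⟩
  obtain ⟨i, ⟨hi₁, hi₂⟩, -⟩ := Hensel.IsStrictHenselization.universal (R := O') (S := RX') M f₀.hom er.symm.toRingHom (by
    refine RingHom.ext fun z => er.injective ?_
    obtain ⟨o, rfl⟩ := residue_surjective z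
    show er (er.symm (ResidueField.map (algebraMap O' RX') (residue O' o))) = _
    rw [er.apply_symm_apply, ResidueField.map_residue, ResidueField.map_residue, ← hjf']
    exact (ResidueField.map_residue j (f₀.hom o)).symm)
  have hjres : ∀ y, residue RX' (j (i y)) = residue RX' y := fun y => by
    rw [← ResidueField.map_residue j, hi₂]
    exact er.apply_symm_apply _
  have hji : ∀ y, j (i y) = y := by
    haveI : IsLocalHom i := isLocalHom_of_residue_eq i er.symm.toRingHom hi₂
    haveI : IsLocalHom (j.comp i) := RingHom.isLocalHom_comp _ _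
    haveI : HenselianLocalRing RX' := Hensel.IsStrictHenselization.henselian (R := O')
    have h := EtPBC0.eq_of_residue (A := O') (algebraMap O' RX') (j.comp i) (RingHom.id RX')
      (RingHom.ext fun o => (congrArg j (RingHom.congr_fun hi₁ o)).trans (hjf' o)) rfl fun y => (hjres y).symm
    exact fun y => RingHom.congr_fun h y
  have hinj : ∀ a b : M, residue RX' (j a) = residue RX' (j b) → residue M a = residue M b := fun a b hab =>
    jr.injective (((ResidueField.map_residue j a).trans hab).trans (ResidueField.map_residue j b).symm)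
  haveI : IsLocalHom i := isLocalHom_of_residue_eq i er.symm.toRingHom hi₂
  have hiR : ∀ y, i (φ y) = incR y := by
    have hfa : ∀ c, f₀.hom ((p.stalkMap x').hom c) = incR (algebraMap OX RX c) := by
      have : p.stalkMap x' ≫ f₀ = CommRingCat.ofHom (algebraMap OX RX) ≫ CommRingCat.ofHom incR := by
        refine Spec.map_injective ((cancel_mono (X.fromSpecStalk (p.base x'))).1 ?_)
        rw [Spec.map_comp, Category.assoc, Scheme.SpecMap_stalkMap_fromSpecStalk, ← Category.assoc, hf₀,
          sq.lift_fst, Spec.map_comp, Category.assoc]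
      exact fun c => ConcreteCategory.congr_hom this c
    have hφa : ∀ c, φ (algebraMap OX RX c) = algebraMap O' RX' ((p.stalkMap x').hom c) := fun c => by
      rw [← hjf', hfa, hjR]
    haveI : IsLocalHom (i.comp φ) := RingHom.isLocalHom_comp _ _
    haveI : IsLocalHom (incR.comp (algebraMap OX RX)) := RingHom.isLocalHom_comp _ _
    have h := EtPBC0.eq_of_residue (A := OX) (incR.comp (algebraMap OX RX)) (i.comp φ) incR
      (RingHom.ext fun c => by
        show i (φ (algebraMap OX RX c)) = incR (algebraMap OX RX c)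
        rw [hφa, ← hfa]
        exact RingHom.congr_fun hi₁ _) rfl fun y => hinj _ _ (by
        show residue RX' (j (incR y)) = residue RX' (j (i (φ y)))
        rw [hjR, hji])
    exact fun y => RingHom.congr_fun h y
  have hiL : ∀ n, i (ψL n) = incL n := by
    have hfb : ∀ c, f₀.hom ((f'.stalkMap x').hom c) = incL (algebraMap OS' RS' c) := by
      have : f'.stalkMap x' ≫ f₀ = CommRingCat.ofHom (algebraMap OS' RS') ≫ CommRingCat.ofHom incL := by
        refine Spec.map_injective ((cancel_mono (S'.fromSpecStalk (f'.base x'))).1 ?_)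
        rw [Spec.map_comp, Category.assoc, Scheme.SpecMap_stalkMap_fromSpecStalk, ← Category.assoc, hf₀,
          sq.lift_snd, Spec.map_comp, Category.assoc]
      exact fun c => ConcreteCategory.congr_hom this c
    have hφb : ∀ c, ψL (algebraMap OS' RS' c) = algebraMap O' RX' ((f'.stalkMap x').hom c) := fun c => by
      rw [← hjf', hfb, hjL]
    haveI : IsLocalHom (i.comp ψL) := RingHom.isLocalHom_comp _ _
    haveI : IsLocalHom (incL.comp (algebraMap OS' RS')) := RingHom.isLocalHom_comp _ _
    have h := EtPBC0.eq_of_residue (A := OS') (incL.comp (algebraMap OS' RS')) (i.comp ψL) incL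
      (RingHom.ext fun c => by
        show i (ψL (algebraMap OS' RS' c)) = incL (algebraMap OS' RS' c)
        rw [hφb, ← hfb]
        exact RingHom.congr_fun hi₁ _) rfl fun y => hinj _ _ (by
        show residue RX' (j (incL y)) = residue RX' (j (i (ψL y)))
        rw [hjL, hji])
    exact fun y => RingHom.congr_fun h y
  have hij : i.comp j = RingHom.id M := hgen _ _
    (fun y => (congrArg i (hjR y)).trans (hiR y)) (fun n => (congrArg i (hjL n)).trans (hiL n))
  exact ⟨Function.LeftInverse.injective (RingHom.congr_fun hij), fun y => ⟨i y, hji y⟩⟩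

/-- The strict henselization upstairs is the tensor product, when the one of the new base is integral. -/
theorem exists_tensor_equiv {X S X' S' : Scheme.{u}} (f : X ⟶ S) (p : X' ⟶ X) (f' : X' ⟶ S') (g : S' ⟶ S)
    (sq : IsPullback p f' f g) (x' : X') (RS RX RS' RX' : Type u) [CommRing RS] [IsLocalRing RS] [CommRing RX]
    [IsLocalRing RX] [CommRing RS'] [IsLocalRing RS'] [CommRing RX'] [IsLocalRing RX']
    [Algebra (S.presheaf.stalk (f.base (p.base x'))) RS]
    [IsLocalHom (algebraMap (S.presheaf.stalk (f.base (p.base x'))) RS)]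
    [Hensel.IsStrictHenselization (S.presheaf.stalk (f.base (p.base x'))) RS]
    [Algebra (X.presheaf.stalk (p.base x')) RX] [IsLocalHom (algebraMap (X.presheaf.stalk (p.base x')) RX)]
    [Hensel.IsStrictHenselization (X.presheaf.stalk (p.base x')) RX]
    [Algebra (S'.presheaf.stalk (f'.base x')) RS'] [IsLocalHom (algebraMap (S'.presheaf.stalk (f'.base x')) RS')]
    [Hensel.IsStrictHenselization (S'.presheaf.stalk (f'.base x')) RS']
    [Algebra (X'.presheaf.stalk x') RX'] [IsLocalHom (algebraMap (X'.presheaf.stalk x') RX')]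
    [Hensel.IsStrictHenselization (X'.presheaf.stalk x') RX']
    [Algebra RS RX] [IsLocalHom (algebraMap RS RX)] [Algebra RS RS'] [IsLocalHom (algebraMap RS RS')]
    [Algebra.IsIntegral RS RS'] [Algebra RS' RX'] [IsLocalHom (algebraMap RS' RX')]
    [Algebra RS RX'] [IsScalarTower RS RS' RX']
    (φ : RX →ₐ[RS] RX') [IsLocalHom φ.toRingHom]
    (hS : Hens2.specOf S' (f'.base x') RS' ≫ g =
      Spec.map (CommRingCat.ofHom (algebraMap RS RS')) ≫ Hens2.specOf S (f.base (p.base x')) RS)
    (hX : Hens2.specOf X (p.base x') RX ≫ f =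
      Spec.map (CommRingCat.ofHom (algebraMap RS RX)) ≫ Hens2.specOf S (f.base (p.base x')) RS)
    (hX' : Hens2.specOf X' x' RX' ≫ f' =
      Spec.map (CommRingCat.ofHom (algebraMap RS' RX')) ≫ Hens2.specOf S' (f'.base x') RS')
    (hφ : Hens2.specOf X' x' RX' ≫ p = Spec.map (CommRingCat.ofHom φ.toRingHom) ≫ Hens2.specOf X (p.base x') RX) :
    Nonempty (RS' ⊗[RS] RX ≃ₐ[RS'] RX') := by
  let OX := X.presheaf.stalk (p.base x')
  haveI : HenselianLocalRing RX := Hensel.IsStrictHenselization.henselian (R := OX)
  haveI hsX := Hensel.IsStrictHenselization.isSepClosure (R := OX) (S := RX)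
  haveI : IsSepClosed (ResidueField RX) := hsX.sep_closed
  haveI : HenselianLocalRing RS := Hensel.IsStrictHenselization.henselian (R := S.presheaf.stalk (f.base (p.base x')))
  haveI : IsSepClosed (ResidueField RS) :=
    (Hensel.IsStrictHenselization.isSepClosure (R := S.presheaf.stalk (f.base (p.base x'))) (S := RS)).sep_closed
  haveI : IsPurelyInseparable (ResidueField RS) (ResidueField RS') := by
    convert (Hensel.residueField_of_isIntegral RS RS').2 using 1
    exact Algebra.algebra_ext _ _ fun r => by
      obtain ⟨r, rfl⟩ := residue_surjective r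
      rfl
  haveI : IsLocalRing (RS' ⊗[RS] RX) := Hensel.isLocalRing_tensor RS RS' RX
  let M := RS' ⊗[RS] RX
  let incL : RS' →+* M := algebraMap RS' M
  let incR : RX →+* M := (Algebra.TensorProduct.includeRight : RX →ₐ[RS] M).toRingHom
  haveI : IsLocalHom incR := Hensel.isLocalHom_includeRight RS RS' RX
  haveI hincL : IsLocalHom incL := ⟨fun n hn => by
    by_contra hn'
    exact (maximalIdeal.isMaximal M).ne_top (Ideal.eq_top_of_isUnit_mem _
      (Hensel.tensorMax_le RS RS' RX (maximalIdeal _) (Ideal.mem_sup_left (Ideal.mem_map_of_mem _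
        (show n ∈ maximalIdeal RS' from hn')))) hn)⟩
  haveI : HenselianLocalRing M := by
    letI : Algebra RX M := Algebra.TensorProduct.rightAlgebra
    haveI : Algebra.IsIntegral RX M := ⟨fun x => Hensel.isIntegral_includeRight RS RS' RX x⟩
    exact Hensel.henselianLocalRing_of_isIntegral_local RX M
  haveI : IsSepClosed (ResidueField M) := by
    letI : Algebra RX M := Algebra.TensorProduct.rightAlgebra
    haveI : IsLocalHom (algebraMap RX M) := ‹IsLocalHom incR›
    haveI : Algebra.IsIntegral RX M := ⟨fun x => Hensel.isIntegral_includeRight RS RS' RX x⟩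
    exact (Hensel.residueField_of_isIntegral RX M).1
  let jA : M →ₐ[RS'] RX' := Algebra.TensorProduct.lift (Algebra.ofId RS' RX') φ fun _ _ => Commute.all _ _
  let j : M →+* RX' := jA.toRingHom
  have hjL : ∀ n, j (incL n) = algebraMap RS' RX' n := fun n => jA.commutes n
  have hjR : ∀ y, j (incR y) = φ y := fun y => by
    show jA ((1 : RS') ⊗ₜ[RS] y) = φ y
    rw [Algebra.TensorProduct.lift_tmul, map_one, one_mul]
  haveI hjloc : IsLocalHom j := by
    letI : Algebra RX M := Algebra.TensorProduct.rightAlgebra
    haveI : Algebra.IsIntegral RX M := ⟨fun x => Hensel.isIntegral_includeRight RS RS' RX x⟩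
    have hc : (Ideal.comap j (maximalIdeal RX')).comap (algebraMap RX M) = maximalIdeal RX := by
      ext y
      show j (incR y) ∈ maximalIdeal RX' ↔ _
      rw [hjR]
      exact ⟨fun hy hu => hy (hu.map φ.toRingHom), fun hy hu => hy (isUnit_of_map_unit φ.toRingHom y hu)⟩
    haveI : (Ideal.comap j (maximalIdeal RX')).IsPrime := Ideal.IsPrime.comap j
    haveI : (Ideal.comap j (maximalIdeal RX')).IsMaximal :=
      Ideal.isMaximal_of_isIntegral_of_isMaximal_comap _ (hc ▸ maximalIdeal.isMaximal RX)
    exact ((local_hom_TFAE j).out 0 4).mpr (IsLocalRing.eq_maximalIdeal inferInstance)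
  -- the morphism from the tensor product
  have w₁ : (Spec.map (CommRingCat.ofHom incR) ≫ Hens2.specOf X (p.base x') RX) ≫ f =
      (Spec.map (CommRingCat.ofHom incL) ≫ Hens2.specOf S' (f'.base x') RS') ≫ g :=
    sq_comp _ _ _ _ _ _ _ f g hX hS (specMap_tensor RS RS' RX)
  refine ⟨AlgEquiv.ofBijective jA (bijective_cocone f p f' g sq x' RX RS' RX' φ.toRingHom (algebraMap RS' RX')
    hX' hφ M incR incL j hjR hjL w₁ fun h h' hR hL => RingHom.ext fun z => ?_)⟩
  induction z using TensorProduct.induction_on with
  | zero => simp only [map_zero]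
  | tmul n y =>
    have e : n ⊗ₜ[RS] y = incL n * incR y := by
      show _ = (n ⊗ₜ[RS] (1 : RX)) * ((1 : RS') ⊗ₜ[RS] y)
      rw [Algebra.TensorProduct.tmul_mul_tmul, mul_one, one_mul]
    rw [e, map_mul, map_mul, hL, hR]
  | add u v hu hv => simp only [map_add, hu, hv]

end Groth.Agent.EtAcycBC
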