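import Mathlib.Algebra.Category.Grp.Abelian
import Mathlib.Algebra.Category.Grp.Colimits
import Mathlib.Algebra.Category.Grp.FilteredColimits
import Mathlib.Algebra.Category.Grp.EpiMono
import Mathlib.Algebra.Homology.ShortComplex.Ab
import Mathlib.Algebra.Homology.ShortComplex.ShortExact
import Mathlib.GroupTheory.FiniteAbelian.Basic
import Mathlib.Data.ZMod.QuotientGroup
import Mathlib.GroupTheory.OrderOfElement

/-!
# Dévissage for torsion abelian groups with allowed exponents
-/

set_option autoImplicit false
set_option linter.style.haveILetI false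

universe u

open CategoryTheory CategoryTheory.Limits

namespace Groth.Agent.EtAcycBC

/-- The subgroups generated by finite subsets, as a diagram. -/
noncomputable def genDiagram (M : AddCommGrpCat.{u}) : Finset M ⥤ AddCommGrpCat.{u} where
  obj S := AddCommGrpCat.of (AddSubgroup.closure (S : Set M))
  map {_ _} h := AddCommGrpCat.ofHom (AddSubgroup.inclusion (AddSubgroup.closure_mono (Finset.coe_subset.2 (leOfHom h))))
  map_id _ := AddCommGrpCat.ext fun _ => rfl
  map_comp _ _ := AddCommGrpCat.ext fun _ => rfl

/-- Its cocone to the whole group. -/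
noncomputable def genCocone (M : AddCommGrpCat.{u}) : Cocone (genDiagram M) where
  pt := M
  ι := { app S := AddCommGrpCat.ofHom (AddSubgroup.closure (S : Set M)).subtype
         naturality _ _ _ := AddCommGrpCat.ext fun _ => rfl }

/-- A group is the filtered colimit of the subgroups generated by finite subsets. -/
theorem nonempty_isColimit_genCocone (M : AddCommGrpCat.{u}) : Nonempty (IsColimit (genCocone M)) := by
  classical
  let el : ∀ (S : Finset M) (m : M), m ∈ S → (genDiagram M).obj S := fun S m h =>
    (⟨m, AddSubgroup.subset_closure (Finset.mem_coe.2 h)⟩ : AddSubgroup.closure (S : Set M))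
  have hel : ∀ (s : Cocone (genDiagram M)) (S : Finset M) (m : M) (h : m ∈ S),
      s.ι.app S (el S m h) = s.ι.app {m} (el {m} m (Finset.mem_singleton_self m)) := fun s S m h =>
    (ConcreteCategory.congr_hom (s.w (homOfLE (Finset.singleton_subset_iff.2 h) : ({m} : Finset M) ⟶ S))
      (el {m} m (Finset.mem_singleton_self m)))
  let desc : ∀ s : Cocone (genDiagram M), M ⟶ s.pt := fun s => AddCommGrpCat.ofHom
    (AddMonoidHom.mk' (fun m => s.ι.app {m} (el {m} m (Finset.mem_singleton_self m))) fun a b => by
      have h₁ := hel s {a, b, a + b} a (by simp)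
      have h₂ := hel s {a, b, a + b} b (by simp)
      have h₃ := hel s {a, b, a + b} (a + b) (by simp)
      have h₄ := map_add (s.ι.app ({a, b, a + b} : Finset M)).hom (el {a, b, a + b} a (by simp))
        (el {a, b, a + b} b (by simp))
      exact h₃.symm.trans (h₄.trans (congrArg₂ (· + ·) h₁ h₂)))
  refine ⟨{ desc := desc, fac := fun s S => AddCommGrpCat.ext fun x => ?_, uniq := fun s m hm => ?_ }⟩
  · obtain ⟨x, hx⟩ := x
    have hS : S ≤ insert x S := Finset.subset_insert x S
    have h₁ := hel s (insert x S) x (Finset.mem_insert_self x S)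
    exact h₁.symm.trans (ConcreteCategory.congr_hom (s.w (homOfLE hS : S ⟶ insert x S)) ⟨x, hx⟩)
  · refine AddCommGrpCat.ext fun x => ?_
    exact ConcreteCategory.congr_hom (hm {x}) (el {x} x (Finset.mem_singleton_self x))

/-- A property of abelian groups stable under extensions and filtered colimits holds for every torsion group
with allowed exponents as soon as it holds for the allowed groups of prime order. -/
theorem prop_of_torsion (good : ℕ → Prop) (hgood : ∀ a n : ℕ, a ∣ n → good n → good a)
    (P : AddCommGrpCat.{u} → Prop) (hzero : ∀ A : AddCommGrpCat.{u}, IsZero A → P A)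
    (hext : ∀ S : ShortComplex AddCommGrpCat.{u}, S.ShortExact → P S.X₁ → P S.X₃ → P S.X₂)
    (hp : ∀ p : ℕ, p.Prime → good p → P (AddCommGrpCat.of (ULift.{u} (ZMod p))))
    (hcol : ∀ (M : AddCommGrpCat.{u}), (∀ S : Finset M, P ((genDiagram M).obj S)) → P M)
    (M : AddCommGrpCat.{u}) (hM : ∀ m : M, ∃ n : ℕ, 0 < n ∧ good n ∧ n • m = 0) : P M := by
  have hfin : ∀ (k : ℕ) (A : AddCommGrpCat.{u}), Finite A → Nat.card A ≤ k →
      (∀ m : A, ∃ n : ℕ, 0 < n ∧ good n ∧ n • m = 0) → P A := by
    intro k
    induction k with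
    | zero => intro A hA hk _; exact absurd (Nat.card_pos (α := A)) (by omega)
    | succ k ih =>
      intro A hA hk hT
      by_cases hs : Subsingleton A
      · exact hzero A ((IsZero.iff_id_eq_zero A).2 (AddCommGrpCat.ext fun a => hs.elim _ _))
      haveI : Nontrivial A := not_subsingleton_iff_nontrivial.1 hs
      obtain ⟨x, hx⟩ := exists_ne (0 : A)
      obtain ⟨n, hn0, hng, hnx⟩ := hT x
      have hd : addOrderOf x ∣ n := addOrderOf_dvd_iff_nsmul_eq_zero.2 hnx
      have hne : addOrderOf x ≠ 1 := fun h => hx (AddMonoid.addOrderOf_eq_one_iff.1 h)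
      have h0 : addOrderOf x ≠ 0 := fun h => by
        rw [h, zero_dvd_iff] at hd
        omega
      let p := (addOrderOf x).minFac
      have hpp : p.Prime := Nat.minFac_prime hne
      have hpd : p ∣ addOrderOf x := Nat.minFac_dvd _
      let y := (addOrderOf x / p) • x
      have hy : addOrderOf y = p := addOrderOf_nsmul_addOrderOf_sub h0 hpd
      let f₀ : ZMod p →+ A := ZMod.lift p ⟨zmultiplesHom A y, by
        simp only [zmultiplesHom_apply, natCast_zsmul]
        rw [← hy]
        exact addOrderOf_nsmul_eq_zero y⟩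
      have hf₀ : Function.Injective f₀ := (ZMod.lift_injective _).2 fun m hm => by
        have : m • y = 0 := hm
        rw [← addOrderOf_dvd_iff_zsmul_eq_zero, hy] at this
        exact (ZMod.intCast_zmod_eq_zero_iff_dvd m p).2 this
      let f : ULift.{u} (ZMod p) →+ A := f₀.comp (AddEquiv.ulift : ULift.{u} (ZMod p) ≃+ ZMod p).toAddMonoidHom
      have hf : Function.Injective f := hf₀.comp (AddEquiv.ulift : ULift.{u} (ZMod p) ≃+ ZMod p).injective
      let S := ShortComplex.mk (AddCommGrpCat.ofHom f) (AddCommGrpCat.ofHom (QuotientAddGroup.mk' f.range))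
        (AddCommGrpCat.ext fun z => (QuotientAddGroup.eq_zero_iff _).2 ⟨z, rfl⟩)
      haveI : Mono S.f := (AddCommGrpCat.mono_iff_injective _).2 hf
      haveI : Epi S.g := (AddCommGrpCat.epi_iff_surjective _).2 (QuotientAddGroup.mk'_surjective _)
      have hS : S.ShortExact :=
        { exact := S.ab_exact_iff.2 fun b hb => (QuotientAddGroup.eq_zero_iff b).1 hb }
      refine hext S hS (hp p hpp (hgood p n (hpd.trans hd) hng)) (ih _ ?_ ?_ fun z => ?_)
      · exact inferInstanceAs (Finite (A ⧸ f.range))
      · show Nat.card (A ⧸ f.range) ≤ k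
        have hq : 1 < Nat.card f.range := by
          rw [← Nat.card_congr (AddMonoidHom.ofInjective hf).toEquiv, Nat.card_congr Equiv.ulift, Nat.card_zmod]
          exact hpp.one_lt
        have hmul := AddSubgroup.card_eq_card_quotient_mul_card_addSubgroup f.range
        have hpos : 0 < Nat.card (A ⧸ f.range) := Nat.card_pos
        nlinarith
      · obtain ⟨a, ha⟩ := QuotientAddGroup.mk'_surjective f.range z
        obtain ⟨n, h₁, h₂, h₃⟩ := hT a
        refine ⟨n, h₁, h₂, ?_⟩
        show n • (z : A ⧸ f.range) = 0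
        rw [← ha, ← map_nsmul, h₃, map_zero]
  refine hcol M fun S => ?_
  let H := AddSubgroup.closure (S : Set M)
  have hT : ∀ m : H, ∃ n : ℕ, 0 < n ∧ good n ∧ n • m = 0 := fun m => by
    obtain ⟨n, h₁, h₂, h₃⟩ := hM (m : M)
    exact ⟨n, h₁, h₂, Subtype.ext (by simpa using h₃)⟩
  haveI : AddGroup.FG H := (AddGroup.fg_iff_addSubgroup_fg H).2 ⟨S, rfl⟩
  have : Finite H := AddCommGroup.finite_of_fg_torsion H fun m => by
    obtain ⟨n, h₁, -, h₃⟩ := hT m
    exact isOfFinAddOrder_iff_nsmul_eq_zero.2 ⟨n, h₁, h₃⟩
  exact hfin _ ((genDiagram M).obj S) this le_rfl hT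

end Groth.Agent.EtAcycBC
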